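import Groth.Agent.NodeLib.NodeChart
import Groth.Agent.NodeLib.NodalFamEtale
import Groth.Prelude.Def_StrictSS
import Mathlib

/-!
# The line and node models are nodal families of curves
-/

set_option autoImplicit false
set_option linter.style.haveILetI false
set_option backward.isDefEq.respectTransparency false
set_option backward.isDefEq.respectTransparency.types false

universe u

open CategoryTheory CategoryTheory.Limits AlgebraicGeometry MvPolynomial

namespace Groth.Agent.StrictSSLib
open Groth.Agent.NodeLib Groth.Agent.NodeLib.Hess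

variable (A : Type u) [CommRing A]

/-- The monomials `u^i v^j` with `ij = 0` form a basis of `A[u, v]/(uv - a)`. -/
theorem flat_nodeAlg (a : A) : Module.Flat A (StrictSS.NodeAlg A a) := by
  classical
  let I : Ideal (MvPolynomial (Fin 2) A) := Ideal.span {X 0 * X 1 - C a}
  let q := Ideal.Quotient.mkₐ A I
  let sgl : (Fin 2 →₀ ℕ) → (ℤ →₀ A) := fun m =>
    Finsupp.single ((m 0 : ℤ) - m 1) (a ^ min (m 0) (m 1))
  let ψ : MvPolynomial (Fin 2) A →ₗ[A] (ℤ →₀ A) := (basisMonomials (Fin 2) A).constr A sgl
  have hψ : ∀ m, ψ (monomial m 1) = sgl m := fun m => by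
    have := (basisMonomials (Fin 2) A).constr_basis A sgl m
    rwa [coe_basisMonomials] at this
  have key : ∀ p, ψ (p * (X 0 * X 1 - C a)) = 0 := fun p => by
    induction p using MvPolynomial.induction_on' with
    | monomial m c =>
      have h2 : (X 0 * X 1 : MvPolynomial (Fin 2) A) = monomial (Finsupp.single 0 1 + Finsupp.single 1 1) 1 := by
        simp [X, monomial_mul]
      have h1 : monomial m c * (X 0 * X 1 - C a) =
          c • monomial (m + (Finsupp.single 0 1 + Finsupp.single 1 1)) 1 - (c * a) • monomial m (1 : A) := by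
        rw [mul_sub, h2, monomial_mul, C_apply, monomial_mul, smul_monomial, smul_monomial]
        simp
      rw [h1, map_sub, map_smul, map_smul, hψ, hψ, sub_eq_zero]
      simp only [sgl, Finsupp.add_apply, Finsupp.single_apply, Finsupp.smul_single, smul_eq_mul]
      simp only [Fin.reduceEq, if_true, if_false, add_zero, zero_add]
      rw [Nat.add_min_add_right, pow_succ]
      push_cast
      congr 1 <;> ring
    | add p p' hp hp' => rw [add_mul, map_add, hp, hp', add_zero]
  have hker : I.restrictScalars A ≤ LinearMap.ker ψ := fun x hx => by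
    obtain ⟨w, rfl⟩ := Ideal.mem_span_singleton'.mp hx
    exact key w
  let ψ' : (MvPolynomial (Fin 2) A ⧸ I) →ₗ[A] (ℤ →₀ A) :=
    (Submodule.liftQ (I.restrictScalars A) ψ hker).comp
      (Submodule.Quotient.restrictScalarsEquiv A I).symm.toLinearMap
  have hψ' : ∀ x, ψ' (q x) = ψ x := fun x => rfl
  let φ : (ℤ →₀ A) →ₗ[A] (MvPolynomial (Fin 2) A ⧸ I) :=
    Finsupp.lift _ A ℤ fun n => q (X 0) ^ n.toNat * q (X 1) ^ (-n).toNat
  have hφ : ∀ (n : ℤ) (c : A), φ (Finsupp.single n c) = c • (q (X 0) ^ n.toNat * q (X 1) ^ (-n).toNat) :=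
    fun n c => by simp [φ]
  have huv : q (X 0) * q (X 1) = algebraMap A _ a := by
    rw [← map_mul, ← q.commutes]
    exact Ideal.Quotient.eq.mpr (Ideal.mem_span_singleton_self _)
  have hmon : ∀ m : Fin 2 →₀ ℕ, φ (sgl m) = q (monomial m 1) := fun m => by
    have hm : (monomial m (1 : A) : MvPolynomial (Fin 2) A) = X 0 ^ m 0 * X 1 ^ m 1 := by
      rw [monomial_eq, Finsupp.prod_fintype _ _ (fun i => pow_zero _), Fin.prod_univ_two, map_one, one_mul]
    simp only [sgl]
    rw [hφ, hm, map_mul, map_pow, map_pow]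
    rw [show ∀ (c : A) (y : MvPolynomial (Fin 2) A ⧸ I), c • y = algebraMap A _ c * y from fun c y => by
        obtain ⟨p, rfl⟩ := Ideal.Quotient.mkₐ_surjective A I y
        show q (c • p) = algebraMap A _ c * q p
        rw [← q.commutes, ← map_mul, Algebra.smul_def],
      map_pow, ← huv, mul_pow]
    rcases le_total (m 0) (m 1) with h | h
    · rw [min_eq_left h, show ((m 0 : ℤ) - m 1).toNat = 0 by omega,
        show (-((m 0 : ℤ) - m 1)).toNat = m 1 - m 0 by omega, pow_zero, one_mul, mul_assoc, ← pow_add,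
        Nat.add_sub_cancel' h]
    · rw [min_eq_right h, show (-((m 0 : ℤ) - m 1)).toNat = 0 by omega,
        show ((m 0 : ℤ) - m 1).toNat = m 0 - m 1 by omega, pow_zero, mul_one, mul_right_comm, ← pow_add,
        Nat.add_sub_cancel' h]
  have h1 : φ.comp ψ' = LinearMap.id := by
    refine LinearMap.ext fun y => ?_
    obtain ⟨x, rfl⟩ := Ideal.Quotient.mkₐ_surjective A I y
    show φ (ψ' (q x)) = q x
    rw [hψ']
    have : φ.comp ψ = q.toLinearMap :=
      (basisMonomials (Fin 2) A).ext fun m => by
        rw [coe_basisMonomials]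
        show φ (ψ (monomial m 1)) = q (monomial m 1)
        rw [hψ, hmon]
    exact LinearMap.congr_fun this x
  have h2 : ψ'.comp φ = LinearMap.id := by
    refine Finsupp.lhom_ext fun n c => ?_
    show ψ' (φ (Finsupp.single n c)) = Finsupp.single n c
    rw [hφ, map_smul, ← map_pow, ← map_pow, ← map_mul, hψ']
    have hm : (X 0 ^ n.toNat * X 1 ^ (-n).toNat : MvPolynomial (Fin 2) A) =
        monomial (Finsupp.single 0 n.toNat + Finsupp.single 1 (-n).toNat) 1 := by
      rw [X_pow_eq_monomial, X_pow_eq_monomial, monomial_mul, one_mul]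
    rw [hm, hψ]
    simp only [sgl, Finsupp.add_apply, Finsupp.single_apply, Fin.reduceEq, if_true, if_false, add_zero, zero_add]
    rw [show min n.toNat (-n).toNat = 0 by omega, show ((n.toNat : ℤ) - (-n).toNat) = n by omega]
    simp
  exact Module.Flat.of_linearEquiv (LinearEquiv.ofLinearMap ψ' φ h2 h1)

/-- A chart without bound variables which is good everywhere is a nodal family. -/
theorem isNodalFamily_chart (g : MvPolynomial (Fin 0 ⊕ Fin 2) A)
    (hg : (∃ i, IsUnit (D Fin.elim0 i g)) ∨ IsUnit (hess Fin.elim0 g)) {B : Type u} [CommRing B] [Algebra A B]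
    [Module.Flat A B] (e : B ≃ₐ[A] chartRing Fin.elim0 g) :
    Curv2.IsNodalFamily (Spec.map (CommRingCat.ofHom (algebraMap A B))) := by
  let F : Fin 0 → MvPolynomial (Fin 0 ⊕ Fin 2) A := Fin.elim0
  haveI : Module.Flat A (chartRing F g) := Module.Flat.of_linearEquiv e.symm.toLinearEquiv
  have htop : goodOpen F g = ⊤ := by
    refine top_le_iff.mp fun P _ => (mem_goodOpen_iff (F := F) (g := g) P).mpr ⟨?_, ?_⟩
    · have : minor F = 1 := Matrix.det_fin_zero
      rw [this, map_one]
      exact fun h => P.isPrime.ne_top ((Ideal.eq_top_iff_one _).mpr h)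
    · rcases hg with ⟨i, hi⟩ | hi
      · exact Or.inl ⟨i, fun h => P.isPrime.ne_top (Ideal.eq_top_of_isUnit_mem _ h (hi.map _))⟩
      · exact Or.inr fun h => P.isPrime.ne_top (Ideal.eq_top_of_isUnit_mem _ h (hi.map _))
  haveI : IsIso (goodOpen F g).ι := by
    rw [htop, show (⊤ : (Spec (CommRingCat.of (chartRing F g))).Opens).ι = (Scheme.topIso _).hom from rfl]
    infer_instance
  have hstr : chartStr F g = Spec.map (CommRingCat.ofHom (algebraMap A (chartRing F g))) := rfl
  haveI : Flat (chartStr F g) := by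
    rw [hstr, HasRingHomProperty.Spec_iff (P := @Flat)]
    exact RingHom.flat_algebraMap_iff.mpr inferInstance
  haveI : LocallyOfFinitePresentation (chartStr F g) := by
    rw [hstr, HasRingHomProperty.Spec_iff (P := @LocallyOfFinitePresentation)]
    refine RingHom.finitePresentation_algebraMap.mpr (Algebra.FinitePresentation.quotient ?_)
    exact (Submodule.fg_span (Set.finite_range F)).sup (Submodule.fg_span_singleton g)
  have h0 : Curv2.IsNodalFamily ((goodOpen F g).ι ≫ chartStr F g) :=
    ⟨inferInstance, inferInstance, fun s => fibreCond_chart F g s⟩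
  have heq : Spec.map (CommRingCat.ofHom (algebraMap A B)) =
      (Spec.map e.toRingEquiv.toCommRingCatIso.inv ≫ inv (goodOpen F g).ι) ≫ (goodOpen F g).ι ≫ chartStr F g := by
    rw [Category.assoc, IsIso.inv_hom_id_assoc, hstr, ← Spec.map_comp]
    congr 1
    exact CommRingCat.hom_ext (RingHom.ext fun x => (e.symm.commutes x).symm)
  rw [heq]
  exact isNodalFamily_precomp _ h0 _

theorem isNodalFamily_nodeToBase (a : A) : Curv2.IsNodalFamily (StrictSS.nodeToBase A a) := by
  haveI := flat_nodeAlg A a
  let g : MvPolynomial (Fin 0 ⊕ Fin 2) A := X (Sum.inr 0) * X (Sum.inr 1) - C a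
  refine isNodalFamily_chart A g (Or.inr ?_) (Ideal.quotientEquivAlg _ _
    (renameEquiv A (Equiv.emptySum (Fin 0) (Fin 2)).symm) ?_)
  · have hD : ∀ i p, D (Fin.elim0 : Fin 0 → MvPolynomial (Fin 0 ⊕ Fin 2) A) i p = pderiv (Sum.inr i) p := fun i p => by
      rw [D_apply]; simp [minor]
    have : hess Fin.elim0 g = -1 := by
      rw [hess, Matrix.det_fin_two]
      simp [hD, g, pderiv_X]
    rw [this]; exact isUnit_one.neg
  · simp [eqs, g, Ideal.map_span]

theorem isNodalFamily_lineToBase : Curv2.IsNodalFamily (StrictSS.lineToBase A) := by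
  let g : MvPolynomial (Fin 0 ⊕ Fin 2) A := X (Sum.inr 1)
  let F : Fin 0 → MvPolynomial (Fin 0 ⊕ Fin 2) A := Fin.elim0
  have hg : IsUnit (D F 1 g) := by
    have : D F 1 g = 1 := by rw [D_X]; simp [minor]
    rw [this]; exact isUnit_one
  have hker : ∀ p ∈ eqs F g, aeval (Sum.elim Fin.elim0 ![(Polynomial.X : Polynomial A), 0]) p = 0 := by
    intro p hp
    have hle : eqs F g ≤ RingHom.ker (aeval (Sum.elim Fin.elim0 ![(Polynomial.X : Polynomial A), 0])).toRingHom :=
      sup_le (Ideal.span_le.mpr (by rintro _ ⟨l, rfl⟩; exact l.elim0))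
        ((Ideal.span_singleton_le_iff_mem _).mpr (by simp [g]))
    exact hle hp
  let toP : chartRing F g →ₐ[A] Polynomial A := Ideal.Quotient.liftₐ _ _ hker
  let ofP : Polynomial A →ₐ[A] chartRing F g :=
    Polynomial.aeval (Ideal.Quotient.mk (eqs F g) (X (Sum.inr 0)))
  have h1 : toP.comp ofP = AlgHom.id A _ := Polynomial.algHom_ext (by simp [toP, ofP])
  have h2 : ofP.comp toP = AlgHom.id A _ := by
    refine Ideal.Quotient.algHom_ext _ (MvPolynomial.algHom_ext fun j => ?_)
    rcases j with j | j
    · exact j.elim0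
    · fin_cases j
      · simp [toP, ofP]
      · have : (Ideal.Quotient.mk (eqs F g)) (X (Sum.inr 1)) = 0 :=
          Ideal.Quotient.eq_zero_iff_mem.mpr (Ideal.mem_sup_right (Ideal.mem_span_singleton_self _))
        simp [toP, ofP, this]
  exact isNodalFamily_chart A g (Or.inl ⟨1, hg⟩) (AlgEquiv.ofAlgHom ofP toP h2 h1)

end Groth.Agent.StrictSSLib
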